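import Groth.Agent.AbsIntClosure.Basic
import Mathlib

/-!
An affine cover with algebraically closed residue fields integral over the base.
-/

set_option autoImplicit false
set_option backward.isDefEq.respectTransparency false
universe u

open CategoryTheory CategoryTheory.Limits AlgebraicGeometry Polynomial

namespace Groth.Agent.AffClosure

lemma exists_fraction {X : Scheme.{u}} [IsAffine X] (x : X) (r : X.residueField x) :
    ∃ a t : Γ(X, ⊤), X.Γevaluation x t ≠ 0 ∧ r * X.Γevaluation x t = X.Γevaluation x a := by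
  obtain ⟨s, rfl⟩ := Ideal.Quotient.mk_surjective r
  letI : Algebra Γ(X, ⊤) (X.presheaf.stalk x) := (X.presheaf.germ ⊤ x trivial).hom.toAlgebra
  haveI h := (isAffineOpen_top X).isLocalization_stalk ⟨x, trivial⟩
  obtain ⟨⟨a, t⟩, ht⟩ := IsLocalization.surj
    ((isAffineOpen_top X).primeIdealOf ⟨x, trivial⟩).asIdeal.primeCompl s
  have hu := IsLocalization.map_units (X.presheaf.stalk x) t
  refine ⟨a, t.1, ?_, ?_⟩
  · exact (IsLocalRing.residue_ne_zero_iff_isUnit _).mpr hu
  · exact congrArg (X.residue x).hom ht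

theorem isIntegral_residueFieldMap {X Y : Scheme.{u}} [IsAffine X] (f : X ⟶ Y) (hf : f.appTop.hom.IsIntegral) (x : X) :
    (f.residueFieldMap x).hom.IsIntegral := by
  have hev : ∀ c : Γ(X, ⊤), (f.residueFieldMap x).hom.IsIntegralElem (X.Γevaluation x c) := fun c => by
    obtain ⟨g, hg, hgc⟩ := hf c
    refine ⟨g.map (Y.Γevaluation (f x)).hom, hg.map _, ?_⟩
    rw [eval₂_map, show (f.residueFieldMap x).hom.comp (Y.Γevaluation (f x)).hom =
      (X.Γevaluation x).hom.comp f.appTop.hom from congrArg CommRingCat.Hom.hom (Scheme.Γevaluation_naturality f x),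
      ← hom_eval₂, hgc, map_zero]
  intro r
  obtain ⟨a, t, ht, hr⟩ := exists_fraction x r
  letI := (f.residueFieldMap x).hom.toAlgebra
  have ha : IsAlgebraic (Y.residueField (f x)) (X.Γevaluation x a) := IsIntegral.isAlgebraic (hev a)
  have hb : IsAlgebraic (Y.residueField (f x)) (X.Γevaluation x t) := IsIntegral.isAlgebraic (hev t)
  have e : r = X.Γevaluation x a * (X.Γevaluation x t)⁻¹ := by rw [← hr, mul_assoc, mul_inv_cancel₀ ht, mul_one]
  rw [e]
  exact (ha.mul hb.inv).isIntegral

theorem isAlgClosed_residueField {X : Scheme.{u}} [IsAffine X]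
    (h : ∀ f : Γ(X, ⊤)[X], f.Monic → f.natDegree ≠ 0 → ∃ b, f.IsRoot b) (x : X) :
    IsAlgClosed (X.residueField x) := by
  classical
  let ev := (X.Γevaluation x).hom
  refine IsAlgClosed.of_exists_root _ fun g hg hgi => ?_
  choose a t ht hat using fun i => exists_fraction x (g.coeff i)
  let T := ∏ i ∈ Finset.range g.natDegree, t i
  have hT : ev T ≠ 0 := by
    rw [map_prod]
    exact Finset.prod_ne_zero_iff.mpr fun i _ => ht i
  let g' := g.scaleRoots (ev T)
  have hlift : g' ∈ lifts ev := by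
    rw [lifts_iff_coeff_lifts]
    intro i
    rcases lt_trichotomy i g.natDegree with hi | rfl | hi
    · obtain ⟨u, hu⟩ : t i ∣ T ^ (g.natDegree - i) :=
        (Finset.dvd_prod_of_mem _ (Finset.mem_range.mpr hi)).trans (dvd_pow_self _ (by omega))
      refine ⟨a i * u, ?_⟩
      rw [coeff_scaleRoots, map_mul, ← map_pow, hu, map_mul, ← mul_assoc]
      exact congrArg (· * ev u) (hat i).symm
    · exact ⟨1, by rw [coeff_scaleRoots_natDegree, hg.leadingCoeff, map_one]⟩
    · exact ⟨0, by rw [coeff_scaleRoots, coeff_eq_zero_of_natDegree_lt hi, map_zero, zero_mul]⟩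
  obtain ⟨q, hq, hqd, hqm⟩ := lifts_and_natDegree_eq_and_monic hlift ((monic_scaleRoots_iff _).mpr hg)
  obtain ⟨c, hc⟩ := h q hqm (by rw [hqd, natDegree_scaleRoots]; exact hgi.natDegree_pos.ne')
  refine ⟨(ev T)⁻¹ * ev c, ?_⟩
  have hc' : g'.eval₂ (RingHom.id _) (ev c) = 0 := by
    rw [← hq, eval₂_map, RingHom.id_comp, eval₂_at_apply]
    exact (congrArg ev hc).trans (map_zero ev)
  have h1 := scaleRoots_eval₂_mul (p := g) (f := RingHom.id _) ((ev T)⁻¹ * ev c) (ev T)
  rw [RingHom.id_apply, ← mul_assoc, mul_inv_cancel₀ hT, one_mul] at h1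
  rw [show eval₂ (RingHom.id _) (ev c) (g.scaleRoots (ev T)) = 0 from hc'] at h1
  exact (mul_eq_zero.mp h1.symm).resolve_left (pow_ne_zero _ hT)

/-- Every ring has an integral extension in which monic polynomials have roots. -/
theorem exists_integral_closed (A : Type u) [CommRing A] : ∃ (C : Type u) (_ : CommRing C) (φ : A →+* C),
    φ.IsIntegral ∧ Function.Injective φ ∧ ∀ f : C[X], f.Monic → f.natDegree ≠ 0 → ∃ c, f.IsRoot c := by
  obtain ⟨B, _, φ, hφ, hB⟩ := AbsIntClosure.exists_closure A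
  letI := φ.toAlgebra
  refine ⟨integralClosure A B, inferInstance, algebraMap A _, algebraMap_isIntegral_iff.mpr inferInstance,
    fun x y hxy => hφ (congrArg Subtype.val hxy), fun f hf hd => ?_⟩
  rcases subsingleton_or_nontrivial B with hs | hs
  · exact ⟨0, Subsingleton.elim _ _⟩
  obtain ⟨b, hb⟩ := hB (f.map (algebraMap (integralClosure A B) B)) (hf.map _) (by rw [hf.natDegree_map]; exact hd)
  have hbint : IsIntegral A b := isIntegral_trans b ⟨f, hf, by rw [← Polynomial.eval_map]; exact hb⟩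
  let b' : integralClosure A B := ⟨b, hbint⟩
  refine ⟨b', Subtype.ext ?_⟩
  have h1 := (Polynomial.eval_map (p := f) (algebraMap (integralClosure A B) B) (algebraMap _ B b')).trans
    (eval₂_at_apply (algebraMap (integralClosure A B) B) b')
  exact h1.symm.trans hb

theorem exists_cover (X : Scheme.{u}) [CompactSpace X] [QuasiSeparatedSpace X] :
    ∃ (X' : Scheme.{u}) (f : X' ⟶ X), IsAffine X' ∧ QuasiCompact f ∧ Surjective f ∧
      ∀ x' : X', IsAlgClosed (X'.residueField x') ∧ (f.residueFieldMap x').hom.IsIntegral := by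
  let 𝒰 := X.affineCover.finiteSubcover
  haveI : ∀ i, IsAffine (𝒰.X i) := fun i => by dsimp [𝒰]; infer_instance
  let X₀ := ∐ fun i => 𝒰.X i
  haveI : IsAffine X₀ := inferInstance
  let π : X₀ ⟶ X := Sigma.desc fun i => 𝒰.f i
  haveI hsurj : Surjective π := ⟨fun z => by
    obtain ⟨i, y, hy⟩ := 𝒰.exists_eq z
    exact ⟨Sigma.ι (fun i => 𝒰.X i) i y, by rw [← Scheme.Hom.comp_apply, Sigma.ι_desc]; exact hy⟩⟩
  obtain ⟨C, _, φ, hφ, hinj, hC⟩ := exists_integral_closed Γ(X₀, ⊤)
  let ψ : Spec (CommRingCat.of C) ⟶ X₀ := Spec.map (CommRingCat.ofHom φ) ≫ X₀.isoSpec.inv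
  haveI : Surjective (Spec.map (CommRingCat.ofHom φ)) := ⟨hφ.comap_surjective hinj⟩
  haveI : Surjective ψ := inferInstanceAs (Surjective (_ ≫ _))
  have hπ : ∀ z : X₀, Function.Surjective (π.residueFieldMap z) := fun z => by
    obtain ⟨⟨i, y⟩, rfl⟩ := (sigmaMk (fun i => 𝒰.X i)).surjective z
    rw [sigmaMk_mk]
    have e3 := Scheme.residueFieldMap_comp (Sigma.ι (fun i => 𝒰.X i) i) π y
    have hg : Function.Bijective (((Sigma.ι (fun i => 𝒰.X i) i) ≫ π).residueFieldMap y) := by
      rw [Sigma.ι_desc]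
      exact ConcreteCategory.bijective_of_isIso ((𝒰.f i).residueFieldMap y)
    rw [e3] at hg
    exact ((Function.Bijective.of_comp_iff' (ConcreteCategory.bijective_of_isIso
      ((Sigma.ι (fun i => 𝒰.X i) i).residueFieldMap y)) _).mp hg).2
  haveI : QuasiCompact (ψ ≫ π) := quasiCompact_of_compactSpace _
  refine ⟨Spec (CommRingCat.of C), ψ ≫ π, inferInstance, inferInstance, inferInstance, fun x => ⟨?_, ?_⟩⟩
  · refine isAlgClosed_residueField (fun f hf hd => ?_) x
    let e := (Scheme.ΓSpecIso (CommRingCat.of C)).commRingCatIsoToRingEquiv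
    rcases subsingleton_or_nontrivial C with hs | hs
    · exact ⟨0, e.injective (Subsingleton.elim _ _)⟩
    obtain ⟨c, hc⟩ := hC (f.map e.toRingHom) (hf.map _) (by rw [hf.natDegree_map]; exact hd)
    refine ⟨e.symm c, e.injective ?_⟩
    rw [map_zero, ← hc]
    exact (eval₂_at_apply e.toRingHom (e.symm c)).symm.trans (by rw [Polynomial.eval_map]; exact congrArg (eval₂ _ · f) (e.apply_symm_apply c))
  · rw [Scheme.residueFieldMap_comp]
    have hψ : ψ.appTop.hom.IsIntegral := by
      have e' : ψ.appTop = X₀.isoSpec.inv.appTop ≫ (Spec.map (CommRingCat.ofHom φ)).appTop :=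
        Scheme.Hom.comp_appTop _ _
      have e2 : (Spec.map (CommRingCat.ofHom φ)).appTop =
          (Scheme.ΓSpecIso Γ(X₀, ⊤)).hom ≫ CommRingCat.ofHom φ ≫ (Scheme.ΓSpecIso (CommRingCat.of C)).inv := by
        rw [← Category.assoc, ← Scheme.ΓSpecIso_naturality, Category.assoc, Iso.hom_inv_id, Category.comp_id]
      rw [e', e2]
      refine RingHom.IsIntegral.trans _ _ (RingHom.isIntegral_of_surjective _
        (ConcreteCategory.bijective_of_isIso X₀.isoSpec.inv.appTop).2) ?_
      refine RingHom.IsIntegral.trans _ _ (RingHom.isIntegral_of_surjective _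
        (ConcreteCategory.bijective_of_isIso (Scheme.ΓSpecIso Γ(X₀, ⊤)).hom).2) ?_
      exact RingHom.IsIntegral.trans _ _ hφ (RingHom.isIntegral_of_surjective _
        (ConcreteCategory.bijective_of_isIso (Scheme.ΓSpecIso (CommRingCat.of C)).inv).2)
    exact RingHom.IsIntegral.trans _ _ (RingHom.isIntegral_of_surjective _ (hπ (ψ x)))
      (isIntegral_residueFieldMap ψ hψ x)

end Groth.Agent.AffClosure
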